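import Groth.Agent.SpecVan.Local
import Groth.Agent.CohQC.Bound
import Groth.Agent.S0460

/-!
Vanishing above the dimension for spectral spaces.
-/

set_option autoImplicit false
set_option linter.style.haveILetI false
set_option linter.unusedSectionVars false
set_option backward.isDefEq.respectTransparency false
set_option backward.isDefEq.respectTransparency.types false

universe u

open CategoryTheory Category Limits Opposite TopologicalSpace Abelian
open Groth.Agent.TopPullModel Groth.Agent.TopCompact Groth.Agent.TopFinite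
open scoped Topology

namespace Groth.Agent.SpecVan

open Groth.Agent.FreeJ Groth.Agent.TopQC

variable {X : TopCat.{u}} (U : Opens X)

/-- The inclusion of free sheaves. -/
noncomputable abbrev frMap {A B : Opens X} (h : A ≤ B) : fr A ⟶ fr B :=
  CohCx.freeSheafMap (Opens.grothendieckTopology X) (homOfLE h)

theorem frMap_eq_secHom {A B : Opens X} (h : A ≤ B) :
    frMap h = secHom A ((fr B).obj.map (homOfLE h).op (one B)) := by
  refine (SiteCoh.secEquiv A (fr B)).injective ?_
  rw [secHom, AddEquiv.apply_symm_apply, ← comp_id (frMap h), SiteCoh.secEquiv_freeSheafMap]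
  rfl

instance mono_frMap {A B : Opens X} (h : A ≤ B) : Mono (frMap h) := by
  refine mono_of_stalk _ fun x => (injective_iff_map_eq_zero _).2 fun a ha => ?_
  by_cases hx : x ∈ A
  · obtain ⟨k, rfl⟩ := exists_eq_zsmul A x hx a
    rw [frMap_eq_secHom, stMap_secHom, gm_res] at ha
    rw [zsmul_g1_eq_zero B x (h hx) k ha, zero_zsmul]
  · exact (subsingleton_stalk A x hx).elim _ _

theorem frMap_comp {A B C : Opens X} (h : A ≤ B) (h' : B ≤ C) : frMap h ≫ frMap h' = frMap (h.trans h') := by
  simp only [frMap, CohCx.freeSheafMap]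
  rw [← Functor.map_comp, ← Functor.whiskerRight_comp, ← Functor.map_comp]
  rfl

theorem mk₀_frMap_comp {A B C : Opens X} (h : A ≤ B) (h' : B ≤ C) {G : CohTop.Ab X} {n : ℕ} (x : Ext (fr C) G n) :
    (Ext.mk₀ (frMap h)).comp ((Ext.mk₀ (frMap h')).comp x (zero_add n)) (zero_add n) =
      (Ext.mk₀ (frMap (h.trans h'))).comp x (zero_add n) := by
  rw [← Ext.comp_assoc _ _ _ (zero_add 0) (zero_add n) (by omega), Ext.mk₀_comp_mk₀, frMap_comp]

/-- The quotient corepresenting sections vanishing on the open. -/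
noncomputable abbrev quotSheaf : CohTop.Ab X := cokernel (frMap (le_top : U ≤ ⊤))

variable [SpectralSpace X] (hU : IsCompact (U : Set X)) {d : ℕ} (hd : DimLT X (d + 1))
  (ih : ∀ n ≤ d, Van.{u} n)

include hU hd ih in
theorem subsingleton_coker_gamKappa {j : ℕ} {S : ShortComplex (CohTop.Ab X)} (hS : S.ShortExact) [Injective S.X₂]
    (hsurj : ∀ x : X, x ∉ U → DimLT (genIn (U : Set X) x) j → Surj U S.X₁ x) (q : ℕ) (hq : d - j ≤ q) :
    Subsingleton (Ext (fr (⊤ : Opens X)) (cokernel (gamKappa U S)) q) := by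
  refine subsingleton_of_support (ih (d - j) (by omega)) _ (TSet (U : Set X) j) (fun x hx => ?_)
    (fun x x' h => TSet_specializes U.isOpen h) (fun C _ hC => dimLT_of_subset_TSet U.isOpen hd hC) q hq
  refine stalk_coker_gamKappa U hU hS ?_
  by_cases hxU : x ∈ U
  · exact Or.inl hxU
  · exact Or.inr (hsurj x hxU (not_not.1 fun h => hx ⟨hxU, h⟩))

include hU hd ih in
theorem subsingleton_ext_quotSheaf : ∀ (k j : ℕ) (G : CohTop.Ab X), k + j = d → Acy U j G →
    (∀ x : X, x ∉ U → DimLT (genIn (U : Set X) x) j → Surj U G x) →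
    Subsingleton (Ext (fr (⊤ : Opens X)) (gamU U G) (k + 1)) → Subsingleton (Ext (quotSheaf U) G (k + 1)) := by
  intro k
  induction k with
  | zero =>
    intro j G hj hacy hsurj hgam
    let S := SiteCoh.embedSeq G
    have hS : S.ShortExact := SiteCoh.embedSeq_shortExact G
    haveI : Subsingleton (Ext (quotSheaf U) S.X₂ 1) := SiteCoh.subsingleton_ext_injective _ _ 0
    refine SiteCoh.subsingleton_ext_one_of_lift hS _ fun φ => ?_
    haveI := mono_gamKappa U hU hS
    let π := cokernel.π (frMap (le_top : U ≤ ⊤))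
    let t := SiteCoh.secEquiv (⊤ : Opens X) S.X₃ (π ≫ φ)
    have ht : t ∈ secsIn S.X₃ (gamSt U S.X₃) ⊤ := (mem_secsIn_gamSt U _ _).2 fun x hx hxU => by
      rw [← gm_res S.X₃ (le_top : U ≤ ⊤) x hxU t, ← SiteCoh.secEquiv_freeSheafMap, ← assoc, cokernel.condition, zero_comp,
        map_zero, map_zero]
    let τ : fr (⊤ : Opens X) ⟶ gamU U S.X₃ := (SiteCoh.secEquiv _ _).symm (⟨t, ht⟩ : secsIn S.X₃ (gamSt U S.X₃) ⊤)
    have hτ : τ ≫ incl S.X₃ (gamSt U S.X₃) = π ≫ φ := (SiteCoh.secEquiv _ _).injective (by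
      rw [SiteCoh.secEquiv_comp, AddEquiv.apply_symm_apply]
      rfl)
    haveI h0 : Subsingleton (Ext (fr (⊤ : Opens X)) (cokernel (gamKappa U S)) 0) :=
      subsingleton_coker_gamKappa U hU hd ih hS hsurj 0 (by omega)
    have hzero : τ ≫ cokernel.π (gamKappa U S) = 0 :=
      (Ext.mk₀_bijective _ _).1 (h0.elim _ _)
    let σ : fr (⊤ : Opens X) ⟶ gamIm U S := Abelian.monoLift (gamKappa U S) τ hzero
    have hσ : σ ≫ gamKappa U S = τ := Abelian.monoLift_comp _ _ _
    let S₁ : ShortComplex (CohTop.Ab X) :=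
      ShortComplex.mk (gamMap U S.f) (cokernel.π (gamMap U S.f)) (cokernel.condition _)
    haveI : Mono (gamMap U S.f) := by
      haveI := hS.mono_f
      exact mono_of_mono_fac (gamMap_incl U S.f)
    have hS₁ : S₁.ShortExact := { exact := ShortComplex.exact_of_g_is_cokernel _ (cokernelIsCokernel _) }
    haveI : Subsingleton (Ext (fr (⊤ : Opens X)) S₁.X₁ 1) := hgam
    obtain ⟨ρ, hρ⟩ := SiteCoh.exists_lift_of_subsingleton_ext_one hS₁ _ σ
    let ψ₀ : fr (⊤ : Opens X) ⟶ S.X₂ := ρ ≫ incl S.X₂ (gamSt U S.X₂)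
    have hψ₀ : frMap (le_top : U ≤ ⊤) ≫ ψ₀ = 0 := (SiteCoh.secEquiv _ _).injective (by
      rw [SiteCoh.secEquiv_freeSheafMap, map_zero, SiteCoh.secEquiv_comp]
      refine gm_ext S.X₂ U _ _ fun x hx => ?_
      rw [gm_res, map_zero]
      exact (mem_secsIn_gamSt U _ _).1 (show secsIn S.X₂ (gamSt U S.X₂) ⊤ from SiteCoh.secEquiv _ _ ρ).2 x trivial hx)
    refine ⟨cokernel.desc _ ψ₀ hψ₀, ?_⟩
    rw [← cancel_epi π, cokernel.π_desc_assoc]
    calc ψ₀ ≫ S.g = ρ ≫ gamMap U S.g ≫ incl S.X₃ (gamSt U S.X₃) := by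
          rw [gamMap_incl]
          simp only [ψ₀, assoc]
      _ = (ρ ≫ cokernel.π (gamMap U S.f)) ≫ gamKappa U S ≫ incl S.X₃ (gamSt U S.X₃) := by
          rw [assoc, gamKappa, cokernel.π_desc_assoc]
      _ = π ≫ φ := by rw [show ρ ≫ cokernel.π (gamMap U S.f) = σ from hρ, ← assoc, hσ, hτ]
  | succ k ihk =>
    intro j G hj hacy hsurj hgam
    let S := SiteCoh.embedSeq G
    have hS : S.ShortExact := SiteCoh.embedSeq_shortExact G
    haveI : TopCat.Sheaf.IsFlasque S.X₂ := S0454.result S.X₂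
    haveI := mono_gamKappa U hU hS
    have h3 : Subsingleton (Ext (fr (⊤ : Opens X)) (gamU U S.X₃) (k + 1)) := by
      let S₁ : ShortComplex (CohTop.Ab X) :=
        ShortComplex.mk (gamMap U S.f) (cokernel.π (gamMap U S.f)) (cokernel.condition _)
      haveI : Mono (gamMap U S.f) := by
        haveI := hS.mono_f
        exact mono_of_mono_fac (gamMap_incl U S.f)
      have hS₁ : S₁.ShortExact := { exact := ShortComplex.exact_of_g_is_cokernel _ (cokernelIsCokernel _) }
      haveI := isFlasque_sub_vanishing U S.X₂ (gamSt U S.X₂) (mem_secsIn_gamSt U)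
      haveI : Subsingleton (Ext (fr (⊤ : Opens X)) S₁.X₁ (k + 1 + 1)) := hgam
      haveI : Subsingleton (Ext (fr (⊤ : Opens X)) S₁.X₂ (k + 1)) := SiteCoh.flasque_acyclic (gamU U S.X₂) ⊤ k
      have h1 : Subsingleton (Ext (fr (⊤ : Opens X)) (gamIm U S) (k + 1)) :=
        SiteCoh.subsingleton_ext_quotient hS₁ _ (k + 1)
      have h2 := subsingleton_coker_gamKappa U hU hd ih hS hsurj (k + 1) (by omega)
      let S₂ : ShortComplex (CohTop.Ab X) :=
        ShortComplex.mk (gamKappa U S) (cokernel.π (gamKappa U S)) (cokernel.condition _)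
      have hS₂ : S₂.ShortExact := { exact := ShortComplex.exact_of_g_is_cokernel _ (cokernelIsCokernel _) }
      refine subsingleton_of_forall_eq 0 fun x => ?_
      obtain ⟨x₁, rfl⟩ := Ext.covariant_sequence_exact₂ _ hS₂ x (h2.elim _ _)
      rw [h1.elim x₁ 0, Ext.zero_comp]
    have := ihk (j + 1) S.X₃ (by omega) (acy_succ U hU hS hacy) (fun x hx h => surj_succ U hU hS hacy hx h) h3
    haveI : Subsingleton (Ext (quotSheaf U) S.X₃ (k + 1)) := this
    haveI : Subsingleton (Ext (quotSheaf U) S.X₂ (k + 1 + 1)) := SiteCoh.subsingleton_ext_injective _ _ _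
    exact SiteCoh.subsingleton_ext_succ hS _ (k + 1)

include hU hd ih in
/-- Restriction to a quasi-compact open is surjective in the degree of the dimension. -/
theorem exists_res_eq (F : CohTop.Ab X) (ξ : Ext (fr U) F d) :
    ∃ η : Ext (fr (⊤ : Opens X)) F d, (Ext.mk₀ (frMap (le_top : U ≤ ⊤))).comp η (zero_add d) = ξ := by
  classical
  let S' : ∀ x, AddSubgroup (CohTop.stalk F x) := fun x => if x ∈ U then ⊤ else ⊥
  have hOC : OpenCond F S' := fun x a ha => by
    by_cases hx : x ∈ U
    · obtain ⟨O, hO, s, rfl⟩ := exists_gm_eq F a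
      refine ⟨O ⊓ U, ⟨hO, hx⟩, F.obj.map (homOfLE inf_le_left).op s, gm_res F _ x _ s, fun y hy => ?_⟩
      show _ ∈ if y ∈ U then (⊤ : AddSubgroup _) else ⊥
      rw [if_pos (show y ∈ U from hy.2)]
      exact AddSubgroup.mem_top _
    · simp only [S', if_neg hx, AddSubgroup.mem_bot] at ha
      exact ⟨⊤, trivial, 0, by rw [map_zero, ha], zero_mem _⟩
  let F' := sub F S'
  have hF' : ∀ x ∉ U, Subsingleton (CohTop.stalk F' x) := fun x hx => subsingleton_of_forall_eq 0 fun a =>
    stalk_injective_of_mono (incl F S') x (by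
      rw [map_zero]
      have h := stMap_incl_mem F S' x a
      simpa [S', hx] using h)
  have hgam : IsZero (gamU U F') := isZero_of_stalks fun x => subsingleton_of_forall_eq 0 fun a =>
    stalk_injective_of_mono (incl F' (gamSt U F')) x (by
      rw [map_zero]
      by_cases hx : x ∈ U
      · have := (mem_gamSt U).1 (stMap_incl_mem F' (gamSt U F') x a) x specializes_rfl hx
        rwa [spec_refl] at this
      · exact (hF' x hx).elim _ _)
  have hacy : Acy U 0 F' := fun x hx e p he hep hp => by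
    haveI : SpectralSpace (TopCat.of (genIn (U : Set X) x)) := spectral_genIn U.isOpen hU x
    refine (subsingleton_H_iff _ p).2 ?_
    rcases le_or_gt e d with h | h
    · exact ih e h (TopCat.of (genIn (U : Set X) x)) he ⊤ (by simpa using isCompact_univ) _ p (by omega)
    · exact ih d le_rfl (TopCat.of (genIn (U : Set X) x)) (dimLT_genIn hd hx) ⊤ (by simpa using isCompact_univ) _ p
        (by omega)
  have hsurj : ∀ x : X, x ∉ U → DimLT (genIn (U : Set X) x) 0 → Surj U F' x := fun x hx h t => by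
    haveI := isEmpty_of_dimLT_zero h
    exact ⟨0, fun z => isEmptyElim z⟩
  haveI h1 : Subsingleton (Ext (quotSheaf U) F' (d + 1)) := subsingleton_ext_quotSheaf U hU hd ih d 0 F' (by omega) hacy
    hsurj ((subsingleton_H_iff _ _).1 (subsingleton_of_isZero hgam _))
  let T₀ : ShortComplex (CohTop.Ab X) :=
    ShortComplex.mk (frMap (le_top : U ≤ ⊤)) (cokernel.π _) (cokernel.condition _)
  have hT₀ : T₀.ShortExact := { exact := ShortComplex.exact_of_g_is_cokernel _ (cokernelIsCokernel _) }
  let S₀ : ShortComplex (CohTop.Ab X) := ShortComplex.mk (incl F S') (cokernel.π _) (cokernel.condition _)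
  have hS₀ : S₀.ShortExact := { exact := ShortComplex.exact_of_g_is_cokernel _ (cokernelIsCokernel _) }
  have hC : Subsingleton (Ext (fr U) S₀.X₃ d) := subsingleton_ext_fr_of_vanish U d _ fun x hx =>
    subsingleton_of_forall_eq 0 fun c => by
      obtain ⟨b, rfl⟩ := stalk_surjective_of_epi (cokernel.π (incl F S')) x c
      obtain ⟨a, rfl⟩ := exists_stMap_incl hOC x b (by
        show b ∈ if x ∈ U then (⊤ : AddSubgroup _) else ⊥
        rw [if_pos hx]
        exact AddSubgroup.mem_top _)
      rw [← stMap_comp_apply, cokernel.condition, stMap_zero_apply]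
  obtain ⟨ξ', hξ'⟩ := Ext.covariant_sequence_exact₂ _ hS₀ ξ (hC.elim _ _)
  have hnn : 1 + d = d + 1 := add_comm 1 d
  obtain ⟨η', hη'⟩ := Ext.contravariant_sequence_exact₁ hT₀ F' ξ' hnn (h1.elim _ _)
  refine ⟨η'.comp (Ext.mk₀ (incl F S')) (add_zero d), ?_⟩
  rw [← Ext.comp_assoc _ _ _ (zero_add d) (add_zero d) (by omega), hη']
  exact hξ'

include hd ih in
theorem van_step : ∀ (p : ℕ), d + 1 ≤ p → ∀ (W : Opens X), IsCompact (W : Set X) → ∀ (F : CohTop.Ab X)
    (ξ : Ext (fr W) F p), ξ = 0 := by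
  classical
  intro p
  induction p with
  | zero => intro h; omega
  | succ p ihp =>
    intro hp W hW F ξ
    obtain ⟨κ, V, hV, hsup, hzero⟩ := S0460.result F W p ξ
    let R : Opens X → Prop := fun A => ∀ (h : A ≤ W), (Ext.mk₀ (frMap h)).comp ξ (zero_add (p + 1)) = 0
    have hmono : ∀ {A B : Opens X}, A ≤ B → B ≤ W → R B → R A := fun {A B} hAB hBW hB hAW => by
      rw [← mk₀_frMap_comp hAB hBW, hB hBW, Ext.comp_zero]
    have hcov : ∀ x : W, ∃ P : Opens X, IsCompact (P : Set X) ∧ x.1 ∈ P ∧ P ≤ W ∧ R P := fun x => by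
      obtain ⟨i, hi⟩ := Opens.mem_iSup.1 (show x.1 ∈ iSup V from hsup.symm ▸ x.2)
      obtain ⟨P, hPc, hxP, hPV⟩ := exists_compact_le hi
      exact ⟨P, hPc, hxP, hPV.trans (hV i), hmono hPV (hV i) fun _ => hzero i⟩
    choose P hPc hxP hPW hPR using hcov
    obtain ⟨T, hT⟩ := hW.elim_finite_subcover (fun x : W => (P x : Set X)) (fun x => (P x).2)
      fun x hx => Set.mem_iUnion.2 ⟨⟨x, hx⟩, hxP ⟨x, hx⟩⟩
    have hT' : ∀ T' : Finset W, IsCompact ((T'.sup P : Opens X) : Set X) ∧ T'.sup P ≤ W ∧ R (T'.sup P) := by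
      intro T'
      induction T' using Finset.induction with
      | empty =>
        refine ⟨by simp, bot_le, fun h => ?_⟩
        exact (SiteCoh.subsingleton_ext_bot F (p + 1)).elim _ _
      | insert x T' _ ihT =>
        obtain ⟨hc, hle, hR⟩ := ihT
        rw [Finset.sup_insert]
        refine ⟨by rw [Opens.coe_sup]; exact (hPc x).union hc, sup_le (hPW x) hle, fun hAB => ?_⟩
        let A := P x
        let B := T'.sup P
        let ξ' : Ext (fr (A ⊔ B)) F (p + 1) := (Ext.mk₀ (frMap hAB)).comp ξ (zero_add (p + 1))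
        let SQ := _root_.Opens.mayerVietorisSquare A B
        have hSQ := SQ.shortComplex_shortExact
        have hfA : biprod.inl ≫ SQ.shortComplex.g = frMap (le_sup_left : A ≤ A ⊔ B) := biprod.inl_desc _ _
        have hfB : biprod.inr ≫ SQ.shortComplex.g = frMap (le_sup_right : B ≤ A ⊔ B) := biprod.inr_desc _ _
        have hf1 : SQ.shortComplex.f ≫ biprod.fst = frMap (inf_le_left : A ⊓ B ≤ A) := biprod.lift_fst _ _
        let x₃ : Ext SQ.shortComplex.X₃ F (p + 1) := ξ'
        have h2 : (Ext.mk₀ SQ.shortComplex.g).comp x₃ (zero_add (p + 1)) = 0 := by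
          apply Ext.biprodAddEquiv.injective
          rw [map_zero]
          refine Prod.ext ?_ ?_
          · rw [Ext.biprodAddEquiv_apply_fst, ← Ext.comp_assoc _ _ _ (zero_add 0) (zero_add (p + 1)) (by omega),
              Ext.mk₀_comp_mk₀]
            erw [hfA]
            exact (mk₀_frMap_comp le_sup_left hAB ξ).trans (hPR x _)
          · rw [Ext.biprodAddEquiv_apply_snd, ← Ext.comp_assoc _ _ _ (zero_add 0) (zero_add (p + 1)) (by omega),
              Ext.mk₀_comp_mk₀]
            erw [hfB]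
            exact (mk₀_frMap_comp le_sup_right hAB ξ).trans (hR _)
        obtain ⟨y, hy⟩ := Ext.contravariant_sequence_exact₃ hSQ F x₃ h2 (n₀ := p) (by omega)
        have hABc : IsCompact ((A ⊓ B : Opens X) : Set X) :=
          QuasiSeparatedSpace.inter_isCompact _ _ A.2 (hPc x) B.2 hc
        obtain ⟨z, hz⟩ : ∃ z, (Ext.mk₀ SQ.shortComplex.f).comp z (zero_add p) = y := by
          rcases (show d ≤ p by omega).eq_or_lt with rfl | hlt
          · obtain ⟨η, hη⟩ := exists_res_eq (A ⊓ B) hABc hd ih F y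
            refine ⟨(Ext.mk₀ biprod.fst).comp ((Ext.mk₀ (frMap (le_top : A ≤ ⊤))).comp η (zero_add d)) (zero_add d), ?_⟩
            rw [← Ext.comp_assoc _ _ _ (zero_add 0) (zero_add d) (by omega), Ext.mk₀_comp_mk₀]
            erw [hf1]
            exact (mk₀_frMap_comp inf_le_left le_top η).trans hη
          · exact ⟨0, (Ext.comp_zero _ _ _ _ _).trans (ihp hlt (A ⊓ B) hABc F y).symm⟩
        change x₃ = 0
        rw [← hy, ← hz, ← Ext.comp_assoc _ _ _ (add_zero 1) (zero_add p) (by omega), hSQ.extClass_comp, Ext.zero_comp]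
    obtain ⟨hc, hle, hR⟩ := hT' T
    have hWle : W ≤ T.sup P := fun y hy => by
      obtain ⟨x, hxT, hxy⟩ := Set.mem_iUnion₂.1 (hT hy)
      exact (Finset.le_sup (f := P) hxT) hxy
    have := hmono hWle hle hR le_rfl
    have hid : frMap (le_refl W) = 𝟙 (fr W) := by
      refine (SiteCoh.secEquiv W (fr W)).injective ?_
      rw [← comp_id (frMap (le_refl W)), SiteCoh.secEquiv_freeSheafMap]
      exact (congrArg (fun g => (fr W).obj.map g _) (Subsingleton.elim (homOfLE (le_refl W)).op (𝟙 _))).trans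
        (ConcreteCategory.congr_hom ((fr W).obj.map_id _) _)
    rwa [hid, Ext.mk₀_id_comp] at this

theorem van : ∀ n : ℕ, Van.{u} n := fun n => by
  induction n using Nat.strong_induction_on with
  | _ n ih =>
    rcases n with _ | d
    · exact van_zero
    intro X _ hd W hW F p hp
    exact subsingleton_of_forall_eq 0 (van_step hd (fun m hm => ih m (by omega)) p hp W hW F)

end Groth.Agent.SpecVan
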