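import Groth.Agent.TopQC.Gen
import Mathlib.Topology.KrullDimension
import Mathlib.Topology.Sober

/-!
Chains of specializations in spectral spaces.
-/

set_option autoImplicit false
set_option linter.style.haveILetI false
set_option linter.unusedSectionVars false
set_option backward.isDefEq.respectTransparency false
set_option backward.isDefEq.respectTransparency.types false

universe u

open CategoryTheory Category Limits Opposite TopologicalSpace
open scoped Topology

namespace Groth.Agent.SpecVan

open Groth.Agent.TopQC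

variable {X : Type u} [TopologicalSpace X]

/-- A chain of proper generalizations. -/
def IsChain' {n : ℕ} (c : Fin (n + 1) → X) : Prop :=
  ∀ i j : Fin (n + 1), i < j → c j ⤳ c i ∧ c i ≠ c j

/-- All chains of proper generalizations have length less than `n`. -/
def DimLT (X : Type u) [TopologicalSpace X] (n : ℕ) : Prop :=
  ∀ (m : ℕ) (c : Fin (m + 1) → X), IsChain' c → m < n

theorem DimLT.mono {n n' : ℕ} (h : DimLT X n) (hn : n ≤ n') : DimLT X n' := fun m c hc => (h m c hc).trans_le hn

theorem dimLT_of_krullDim [T0Space X] (d : ℕ) (h : topologicalKrullDim X ≤ d) : DimLT X (d + 1) := by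
  intro m c hc
  let l : LTSeries (IrreducibleCloseds X) :=
    { length := m
      toFun := fun i => ⟨closure {c i}, isIrreducible_singleton.closure, isClosed_closure⟩
      step := fun i => by
        obtain ⟨h1, h2⟩ := hc i.castSucc i.succ i.castSucc_lt_succ
        refine lt_of_le_of_ne (specializes_iff_closure_subset.1 h1) fun e => h2 ?_
        exact (inseparable_iff_closure_eq.2 e).eq }
  have := Order.LTSeries.length_le_krullDim l
  have h' : (m : WithBot ℕ∞) ≤ (d : WithBot ℕ∞) := this.trans h
  exact Nat.lt_succ_of_le (by exact_mod_cast h')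

theorem isEmpty_of_dimLT_zero (h : DimLT X 0) : IsEmpty X :=
  ⟨fun x => Nat.not_lt_zero _ (h 0 (fun _ => x) fun i j hij => absurd hij (by omega))⟩

theorem IsChain'.ne_of_ne {n : ℕ} {c : Fin (n + 1) → X} (hc : IsChain' c) {i j : Fin (n + 1)} (h : i ≠ j) :
    c i ≠ c j :=
  (lt_or_gt_of_ne h).elim (fun h => (hc i j h).2) fun h => (hc j i h).2.symm

theorem isChain'_comp {Y : Type u} [TopologicalSpace Y] {f : Y → X} (hf : Topology.IsInducing f)
    (hinj : Function.Injective f) {n : ℕ} {c : Fin (n + 1) → Y} (hc : IsChain' c) : IsChain' (f ∘ c) :=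
  fun i j h => ⟨hf.specializes_iff.2 (hc i j h).1, fun e => (hc i j h).2 (hinj e)⟩

/-- Chains in a subset lying above a point. -/
theorem isChain'_cons [T0Space X] {n : ℕ} {c : Fin (n + 1) → X} (hc : IsChain' c) (x : X) (hx : ∀ i, c i ⤳ x ∧ x ≠ c i) :
    IsChain' (Fin.cons x c : Fin (n + 2) → X) := by
  intro i j h
  refine Fin.cases (fun j h => ?_) (fun i j h => ?_) i j h
  · refine Fin.cases (fun h => absurd h (lt_irrefl _)) (fun j _ => ?_) j h
    simpa using hx j
  · refine Fin.cases (fun h => absurd h (Fin.not_lt_zero _)) (fun j h => ?_) j h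
    simpa using hc i j (Fin.succ_lt_succ_iff.1 h)

/-- Gluing two chains. -/
theorem isChain'_append [T0Space X] {n m : ℕ} {c : Fin (n + 1) → X} {c' : Fin (m + 1) → X} (hc : IsChain' c)
    (hc' : IsChain' c') (h : ∀ i j, c' j ⤳ c i ∧ c i ≠ c' j) :
    IsChain' (Fin.append (m := n + 1) (n := m + 1) c c' : Fin (n + 1 + m + 1) → X) := by
  have key : ∀ i j : Fin ((n + 1) + (m + 1)), (i : ℕ) < j →
      Fin.append c c' j ⤳ Fin.append c c' i ∧ Fin.append c c' i ≠ Fin.append c c' j := by
    intro i j
    refine Fin.addCases (fun i => ?_) (fun i => ?_) i <;> refine Fin.addCases (fun j => ?_) (fun j => ?_) j <;>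
      intro hij
    · rw [Fin.append_left, Fin.append_left]
      exact hc i j hij
    · rw [Fin.append_left, Fin.append_right]
      exact h i j
    · exfalso
      rw [Fin.val_natAdd, Fin.val_castAdd] at hij
      omega
    · rw [Fin.append_right, Fin.append_right]
      rw [Fin.val_natAdd, Fin.val_natAdd] at hij
      exact hc' i j (Fin.lt_def.2 (by omega))
  exact fun i j hij => key i j hij

variable [SpectralSpace X]

theorem isOpen_cons_of_isCompact_compl {V : Set X} (hV : IsOpen V) (hVc : IsCompact V) :
    IsOpen[constructibleTopology X] Vᶜ :=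
  (SpecSpLib.isClopen_of_isCompact hV hVc).2

/-- The generalizations of a point inside a quasi-compact open. -/
def genIn (U : Set X) (x : X) : Set X := {u | u ∈ U ∧ u ⤳ x}

theorem genIn_cons {U : Set X} (hU : IsOpen U) (hUc : IsCompact U) (x : X) :
    IsOpen[constructibleTopology X] (genIn U x)ᶜ := by
  have e : (genIn U x)ᶜ = Uᶜ ∪ ⋃ V : {V : Set X // (IsOpen V ∧ IsCompact V) ∧ x ∈ V}, V.1ᶜ := by
    ext u
    simp only [genIn, Set.mem_compl_iff, Set.mem_setOf_eq, Set.mem_union, Set.mem_iUnion, Subtype.exists,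
      specializes_iff_forall_open]
    constructor
    · intro h
      by_cases hu : u ∈ U
      · simp only [hu, true_and, not_forall] at h
        obtain ⟨O, hO, hxO, huO⟩ := h
        obtain ⟨V, hV, hxV, hVO⟩ := PrespectralSpace.isTopologicalBasis.exists_subset_of_mem_open hxO hO
        exact Or.inr ⟨V, ⟨hV, hxV⟩, fun huV => huO (hVO huV)⟩
      · exact Or.inl hu
    · rintro (hu | ⟨V, ⟨⟨hV, -⟩, hxV⟩, huV⟩) ⟨hu', h⟩
      · exact hu hu'
      · exact huV (h V hV hxV)
  rw [e]
  exact @IsOpen.union X _ _ (constructibleTopology X) (isOpen_cons_of_isCompact_compl hU hUc)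
    (@isOpen_iUnion X _ (constructibleTopology X) _ fun V => isOpen_cons_of_isCompact_compl V.2.1.1 V.2.1.2)

/-- Points of the complement with long chains of generalizations inside the open. -/
def TSet (U : Set X) (q : ℕ) : Set X := {x | x ∉ U ∧ ¬ DimLT (genIn U x) q}

theorem TSet_specializes {U : Set X} (hU : IsOpen U) {q : ℕ} {x x' : X} (h : x ⤳ x') (hx : x ∈ TSet U q) :
    x' ∈ TSet U q := by
  refine ⟨fun h' => hx.1 (h.mem_open hU h'), fun hlt => hx.2 fun m c hc => ?_⟩
  let f : genIn U x → genIn U x' := fun u => ⟨u.1, u.2.1, u.2.2.trans h⟩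
  exact hlt m (f ∘ c) fun i j hij => ⟨(subtype_specializes_iff _ _).2 ((subtype_specializes_iff (c j) (c i)).1 (hc i j hij).1),
    fun e => (hc i j hij).2 (Subtype.ext (congrArg (Subtype.val (p := fun u => u ∈ genIn U x')) e))⟩

theorem dimLT_genIn {U : Set X} {n : ℕ} (h : DimLT X (n + 1)) {x : X} (hx : x ∉ U) :
    DimLT (genIn U x) n := fun m c hc => by
  have h1 := isChain'_cons (isChain'_comp Topology.IsInducing.subtypeVal Subtype.val_injective hc) x fun i =>
    ⟨(c i).2.2, fun e => hx (e ▸ (c i).2.1)⟩
  have := h _ _ h1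
  omega

/-- Subsets of `TSet` have small dimension. -/
theorem dimLT_of_subset_TSet {U : Set X} (hU : IsOpen U) {C : Set X} {q d : ℕ} (h : DimLT X (d + 1))
    (hC : C ⊆ TSet U q) : DimLT C (d - q) := fun m c hc => by
  obtain ⟨k, c', hc', hk⟩ : ∃ (k : ℕ) (c' : Fin (k + 1) → genIn U (c (Fin.last m)).1), IsChain' c' ∧ ¬ k < q := by
    have := (hC (c (Fin.last m)).2).2
    simp only [DimLT, not_forall] at this
    obtain ⟨k, c', hc', hk⟩ := this
    exact ⟨k, c', hc', hk⟩
  have hval := isChain'_comp (f := (Subtype.val : C → X)) Topology.IsInducing.subtypeVal Subtype.val_injective hc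
  have h1 := isChain'_append hval
    (isChain'_comp (f := (Subtype.val : genIn U (c (Fin.last m)).1 → X)) Topology.IsInducing.subtypeVal
      Subtype.val_injective hc') fun i j => by
    have hs : (c (Fin.last m)).1 ⤳ (c i).1 := by
      rcases eq_or_ne i (Fin.last m) with rfl | hi
      · exact specializes_rfl
      · exact (hval i (Fin.last m) (lt_of_le_of_ne (Fin.le_last i) hi)).1
    exact ⟨(c' j).2.2.trans hs, fun (e : (c i).1 = (c' j).1) => (hC (c i).2).1 (e ▸ (c' j).2.1)⟩
  have h2 : m + 1 + k < d + 1 := h _ _ h1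
  omega

theorem spectral_genIn {U : Set X} (hU : IsOpen U) (hUc : IsCompact U) (x : X) : SpectralSpace (genIn U x) :=
  (SpecSpLib.subset_spectral (genIn_cons hU hUc x)).1

theorem spectral_of_isClosed {C : Set X} (hC : IsClosed C) : SpectralSpace C :=
  (SpecSpLib.subset_spectral (X := X) (E := C) (isOpen_cons (X := TopCat.of X) hC.isOpen_compl)).1

theorem dimLT_subtype {n : ℕ} (h : DimLT X n) (C : Set X) : DimLT C n := fun m c hc =>
  h m _ (isChain'_comp Topology.IsInducing.subtypeVal Subtype.val_injective hc)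

end Groth.Agent.SpecVan
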