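import Groth.Agent.SpecVan.Supp
import Groth.Agent.TopQC.GenStalk
import Groth.Agent.S0454

/-!
Cohomology with supports in the complement of a quasi-compact open of a spectral space.
-/

set_option autoImplicit false
set_option linter.style.haveILetI false
set_option linter.unusedSectionVars false
set_option backward.isDefEq.respectTransparency false
set_option backward.isDefEq.respectTransparency.types false

universe u

open CategoryTheory Category Limits Opposite TopologicalSpace Abelian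
open Groth.Agent.TopPullModel Groth.Agent.TopCompact Groth.Agent.TopFinite
open scoped Topology

namespace Groth.Agent.SpecVan

open Groth.Agent.FreeJ Groth.Agent.TopQC

variable {X : TopCat.{u}}

theorem spec_stMap {A B : CohTop.Ab X} (φ : A ⟶ B) {x y : X} (h : x ⤳ y) (a : CohTop.stalk A y) :
    spec B h (stMap φ y a) = stMap φ x (spec A h a) := by
  obtain ⟨O, hO, s, rfl⟩ := exists_gm_eq A a
  rw [stMap_gm, spec_gm, spec_gm, stMap_gm]

theorem spec_refl (F : CohTop.Ab X) {x : X} (h : x ⤳ x) (a : CohTop.stalk F x) : spec F h a = a := by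
  obtain ⟨O, hO, s, rfl⟩ := exists_gm_eq F a
  rw [spec_gm]

variable (U : Opens X)

/-- The inclusion of the generalizations inside the open. -/
noncomputable def iota (x : X) : TopCat.of (genIn (U : Set X) x) ⟶ X :=
  TopCat.ofHom ⟨Subtype.val, continuous_subtype_val⟩

/-- The germs vanishing on the open. -/
noncomputable def gamSt (G : CohTop.Ab X) (x : X) : AddSubgroup (CohTop.stalk G x) :=
  ⨅ u : genIn (U : Set X) x, (spec G (show u.1 ⤳ x from u.2.2)).ker

theorem mem_gamSt {G : CohTop.Ab X} {x : X} {a : CohTop.stalk G x} :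
    a ∈ gamSt U G x ↔ ∀ (u : X) (h : u ⤳ x), u ∈ U → spec G h a = 0 := by
  simp only [gamSt, AddSubgroup.mem_iInf, AddMonoidHom.mem_ker]
  exact ⟨fun h u hu hU => h ⟨u, hU, hu⟩, fun h u => h u.1 u.2.2 u.2.1⟩

theorem mem_secsIn_gamSt {G : CohTop.Ab X} (O : Opens X) (s : G.obj.obj (op O)) :
    s ∈ secsIn G (gamSt U G) O ↔ ∀ (x : X) (hx : x ∈ O), x ∈ U → gm G O x hx s = 0 := by
  refine ⟨fun h x hx hxU => ?_, fun h x hx => (mem_gamSt U).2 fun u hu hU => ?_⟩
  · have := (mem_gamSt U).1 (h x hx) x specializes_rfl hxU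
    rwa [spec_refl] at this
  · rw [spec_gm]
    exact h u _ hU

/-- The subsheaf of sections vanishing on the open. -/
noncomputable abbrev gamU (G : CohTop.Ab X) : CohTop.Ab X := sub G (gamSt U G)

theorem gamSt_map {A B : CohTop.Ab X} (φ : A ⟶ B) (x : X) (a : CohTop.stalk (gamU U A) x) :
    stMap (incl A (gamSt U A) ≫ φ) x a ∈ gamSt U B x := by
  rw [stMap_comp_apply]
  refine (mem_gamSt U).2 fun u hu hU => ?_
  rw [spec_stMap, (mem_gamSt U).1 (stMap_incl_mem A (gamSt U A) x a) u hu hU, map_zero]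

/-- Functoriality. -/
noncomputable def gamMap {A B : CohTop.Ab X} (φ : A ⟶ B) : gamU U A ⟶ gamU U B :=
  liftSub B _ (incl A (gamSt U A) ≫ φ) (gamSt_map U φ)

theorem gamMap_incl {A B : CohTop.Ab X} (φ : A ⟶ B) : gamMap U φ ≫ incl B (gamSt U B) = incl A (gamSt U A) ≫ φ := rfl

variable [SpectralSpace X] (hU : IsCompact (U : Set X))

include hU in
theorem genEmb_iota (x : X) :
    GenEmb (iota U x) {M | ∃ V : Opens X, IsCompact (V : Set X) ∧ x ∈ V ∧ M = U ⊓ V} := by
  refine ⟨Topology.IsEmbedding.subtypeVal, ?_, ?_, ?_, fun y => ⟨?_, fun hy => ?_⟩⟩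
  · rintro _ ⟨V, hV, -, rfl⟩
    exact QuasiSeparatedSpace.inter_isCompact _ _ U.2 hU V.2 hV
  · exact ⟨U ⊓ ⊤, ⊤, by simpa using isCompact_univ, trivial, rfl⟩
  · rintro _ ⟨V, hV, hxV, rfl⟩ _ ⟨V', hV', hxV', rfl⟩
    exact ⟨_, ⟨V ⊓ V', QuasiSeparatedSpace.inter_isCompact _ _ V.2 hV V'.2 hV', ⟨hxV, hxV'⟩, rfl⟩,
      fun y hy => ⟨⟨hy.1, hy.2.1⟩, ⟨hy.1, hy.2.2⟩⟩⟩
  · rintro ⟨⟨y', hy'⟩, rfl⟩ _ ⟨V, -, hxV, rfl⟩
    exact ⟨hy'.1, hy'.2.mem_open V.isOpen hxV⟩
  · have hyU : y ∈ U := (hy _ ⟨⊤, by simpa using isCompact_univ, trivial, rfl⟩).1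
    refine ⟨⟨y, hyU, specializes_iff_forall_open.2 fun O hO hxO => ?_⟩, rfl⟩
    obtain ⟨V, hV, hxV, hVO⟩ := exists_compact_le (U := (⟨O, hO⟩ : Opens X)) hxO
    exact hVO (hy _ ⟨V, hV, hxV, rfl⟩).2

include hU in
theorem openCond_gamSt (G : CohTop.Ab X) : OpenCond G (gamSt U G) := by
  intro x a ha
  obtain ⟨O, hO, s, rfl⟩ := exists_gm_eq G a
  obtain ⟨W, hW, hWO, -, hWe⟩ := exists_eq_near G s (0 : G.obj.obj (op O)) (genIn (U : Set X) x) (by
    rintro u ⟨hU, hu⟩
    refine ⟨hu.mem_open O.isOpen hO, hu.mem_open O.isOpen hO, ?_⟩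
    have := (mem_gamSt U).1 ha u hu hU
    rw [spec_gm] at this
    rw [this, map_zero])
  obtain ⟨M, ⟨V, hV, hxV, rfl⟩, hMW⟩ := (genEmb_iota U hU x).exists_le U hU W (by
    rintro _ ⟨⟨z, rfl⟩, -⟩
    exact hW z.2)
  refine ⟨O ⊓ V, ⟨hO, hxV⟩, G.obj.map (homOfLE inf_le_left).op s, gm_res G _ x _ s,
    (mem_secsIn_gamSt U _ _).2 fun y hy hyU => ?_⟩
  have hyW : y ∈ W := hMW ⟨⟨hyU, hy.2⟩, hyU⟩
  rw [gm_res, hWe y hy.1 hy.1 hyW, map_zero]

/-- Sections on the generalizations come from the stalk. -/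
def Surj (G : CohTop.Ab X) (x : X) : Prop :=
  ∀ t : secs (iota U x) G ⊤, ∃ a : CohTop.stalk G x,
    ∀ z : genIn (U : Set X) x, spec G z.2.2 a = t.1 ⟨z, trivial⟩ ⟨z.1, rfl⟩

include hU in
theorem surj_of_flasque (I : CohTop.Ab X) [TopCat.Sheaf.IsFlasque I] (x : X) : Surj U I x := by
  intro t
  obtain ⟨M, hM, s, hs⟩ := (genEmb_iota U hU x).exists_section_near I ⊤ (by simpa using isCompact_univ) t
  obtain ⟨T, hT⟩ := res_surjective_of_flasque I (le_top : M ⊓ ⊤ ≤ ⊤) s
  refine ⟨gm I ⊤ x trivial T, fun z => ?_⟩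
  have hzM : z.1 ∈ M ⊓ ⊤ := ⟨((genEmb_iota U hU x).range_eq z.1).1 ⟨z, rfl⟩ M hM, trivial⟩
  rw [spec_gm, ← gm_res I (le_top : M ⊓ ⊤ ≤ ⊤) z.1 hzM T, hT]
  exact hs ⟨z, trivial⟩ hzM

/-- Acyclicity on the generalizations, shifted by `j`. -/
def Acy (j : ℕ) (G : CohTop.Ab X) : Prop :=
  ∀ x : X, x ∉ U → ∀ e p : ℕ, DimLT (genIn (U : Set X) x) e → e ≤ p + j → 1 ≤ p →
    Subsingleton (CohTop.H ((mfun (iota U x)).obj G) p)

section Step

variable {S : ShortComplex (CohTop.Ab X)} (hS : S.ShortExact) [Injective S.X₂]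

include hU hS in
theorem acy_succ {j : ℕ} (h : Acy U j S.X₁) : Acy U (j + 1) S.X₃ := by
  intro x hx e p he hep hp
  haveI : (mfun (iota U x)).Additive := TopPullModel.mfun_additive _
  haveI : PreservesFiniteLimits (mfun (iota U x)) := TopPullModel.mfun_preservesFiniteLimits _
  haveI : PreservesFiniteColimits (mfun (iota U x)) := TopPullModel.mfun_preservesFiniteColimits _
  obtain ⟨p, rfl⟩ : ∃ p', p = p' + 1 := ⟨p - 1, by omega⟩
  haveI : TopCat.Sheaf.IsFlasque S.X₂ := S0454.result S.X₂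
  haveI : Subsingleton (Ext ((constantSheaf (Opens.grothendieckTopology (TopCat.of (genIn (U : Set X) x)))
      AddCommGrpCat.{u}).obj (AddCommGrpCat.of (ULift.{u} ℤ))) ((mfun (iota U x)).obj S.X₁) (p + 1 + 1)) :=
    h x hx e (p + 1 + 1) he (by omega) (by omega)
  haveI : Subsingleton (Ext ((constantSheaf (Opens.grothendieckTopology (TopCat.of (genIn (U : Set X) x)))
      AddCommGrpCat.{u}).obj (AddCommGrpCat.of (ULift.{u} ℤ))) ((mfun (iota U x)).obj S.X₂) (p + 1)) :=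
    AddCommGrpCat.subsingleton_of_isZero (((genEmb_iota U hU x).isZero_gamDerived_mfun S.X₂ p).of_iso
      (gamDerived (p + 1) _).symm)
  exact @SiteCoh.subsingleton_ext_quotient _ _ _ _ _ (hS.map_of_exact (mfun (iota U x))) _ (p + 1)
    ‹Subsingleton (Ext _ ((mfun (iota U x)).obj S.X₂) (p + 1))› ‹Subsingleton (Ext _ ((mfun (iota U x)).obj S.X₁) (p + 1 + 1))›

include hU hS in
theorem surj_succ {j : ℕ} (h : Acy U j S.X₁) {x : X} (hx : x ∉ U) (hd : DimLT (genIn (U : Set X) x) (j + 1)) :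
    Surj U S.X₃ x := by
  haveI : (mfun (iota U x)).Additive := TopPullModel.mfun_additive _
  haveI : PreservesFiniteLimits (mfun (iota U x)) := TopPullModel.mfun_preservesFiniteLimits _
  haveI : PreservesFiniteColimits (mfun (iota U x)) := TopPullModel.mfun_preservesFiniteColimits _
  intro t
  haveI : TopCat.Sheaf.IsFlasque S.X₂ := S0454.result S.X₂
  have h1 : Subsingleton (CohSite.HU ((mfun (iota U x)).obj S.X₁) 1 (⊤ : Opens (TopCat.of (genIn (U : Set X) x)))) :=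
    (subsingleton_H_iff _ 1).1 (h x hx (j + 1) 1 hd (by omega) le_rfl)
  haveI : Subsingleton (CohSite.HU (S.map (mfun (iota U x))).X₁ 1 (⊤ : Opens (TopCat.of (genIn (U : Set X) x)))) := h1
  obtain ⟨t', ht'⟩ := SiteCoh.sections_surjective (hS.map_of_exact (mfun (iota U x))) ⊤ t
  obtain ⟨a, ha⟩ := surj_of_flasque U hU S.X₂ x t'
  refine ⟨stMap S.g x a, fun z => ?_⟩
  rw [spec_stMap, ha z]
  exact congrArg (fun r : secs (iota U x) S.X₃ ⊤ => r.1 ⟨z, trivial⟩ ⟨z.1, rfl⟩) ht'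

/-- The image of the sections vanishing on the open. -/
noncomputable abbrev gamIm (S : ShortComplex (CohTop.Ab X)) : CohTop.Ab X := cokernel (gamMap U S.f)

/-- The comparison with the sections vanishing on the open. -/
noncomputable def gamKappa (S : ShortComplex (CohTop.Ab X)) : gamIm U S ⟶ gamU U S.X₃ :=
  cokernel.desc (gamMap U S.f) (gamMap U S.g) (by
    rw [← cancel_mono (incl S.X₃ (gamSt U S.X₃)), assoc, gamMap_incl, ← assoc, gamMap_incl, assoc, S.zero, comp_zero,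
      zero_comp])

include hU hS in
theorem mono_gamKappa : Mono (gamKappa U S) := by
  refine mono_of_stalk _ fun x => (injective_iff_map_eq_zero _).2 fun c hc => ?_
  obtain ⟨b, rfl⟩ := stalk_surjective_of_epi (cokernel.π (gamMap U S.f)) x c
  rw [← stMap_comp_apply, gamKappa, cokernel.π_desc] at hc
  have h0 : stMap S.g x (stMap (incl S.X₂ (gamSt U S.X₂)) x b) = 0 := by
    rw [← stMap_comp_apply, ← gamMap_incl, stMap_comp_apply, hc, map_zero]
  obtain ⟨a, ha⟩ := (stk_shortExact hS x).2.1 _ h0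
  obtain ⟨a', ha'⟩ := exists_stMap_incl (openCond_gamSt U hU S.X₁) x a ((mem_gamSt U).2 fun u hu huU =>
    (stk_shortExact hS u).1 (by
      rw [map_zero, ← spec_stMap, ha]
      exact (mem_gamSt U).1 (stMap_incl_mem S.X₂ (gamSt U S.X₂) x b) u hu huU))
  have hb : stMap (gamMap U S.f) x a' = b := stalk_injective_of_mono (incl S.X₂ (gamSt U S.X₂)) x (by
    rw [← stMap_comp_apply, gamMap_incl, stMap_comp_apply, ha', ha])
  rw [← hb, ← stMap_comp_apply, cokernel.condition, stMap_zero_apply]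

include hU hS in
theorem stalk_coker_gamKappa {x : X} (h : x ∈ U ∨ Surj U S.X₁ x) :
    Subsingleton (CohTop.stalk (cokernel (gamKappa U S)) x) := by
  refine subsingleton_of_forall_eq 0 fun c => ?_
  obtain ⟨d, rfl⟩ := stalk_surjective_of_epi (cokernel.π (gamKappa U S)) x c
  have hd := (mem_gamSt U).1 (stMap_incl_mem S.X₃ (gamSt U S.X₃) x d)
  rcases h with hx | hsj
  · have : d = 0 := stalk_injective_of_mono (incl S.X₃ (gamSt U S.X₃)) x (by
      rw [map_zero]
      simpa [spec_refl] using hd x specializes_rfl hx)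
    rw [this, map_zero]
  obtain ⟨b, hb⟩ := (stk_shortExact hS x).2.2 (stMap (incl S.X₃ (gamSt U S.X₃)) x d)
  have hker : ∀ z : genIn (U : Set X) x, ∃ a, stMap S.f z.1 a = spec S.X₂ z.2.2 b := fun z =>
    (stk_shortExact hS z.1).2.1 _ (by rw [← spec_stMap, hb]; exact hd z.1 z.2.2 z.2.1)
  choose a ha using hker
  let t : secs (iota U x) S.X₁ ⊤ :=
    ⟨fun v y => (show CohTop.stalk S.X₁ (v.1 : genIn (U : Set X) x).1 →+ CohTop.stalk S.X₁ y.1 from
        (eqToHom (congrArg (CohTop.stalk S.X₁) y.2)).hom) (a v.1),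
      fun v => by
        obtain ⟨O, hO, s, hs⟩ := exists_gm_eq S.X₁ (a v.1)
        obtain ⟨O₂, hO₂, r, hr⟩ := exists_gm_eq S.X₂ b
        let O₃ : Opens X := O ⊓ O₂
        have hvO₂ : (v.1 : genIn (U : Set X) x).1 ∈ O₂ := v.1.2.2.mem_open O₂.isOpen hO₂
        obtain ⟨M, hM, hMO, hMO₂, hMe⟩ := exists_eq_near S.X₂ (S.f.hom.app (op O) s) r {(v.1 : genIn (U : Set X) x).1} (by
          intro y hy
          obtain rfl : (v.1 : genIn (U : Set X) x).1 = y := (show y = _ from hy).symm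
          refine ⟨hO, hvO₂, ?_⟩
          rw [← stMap_gm, hs, ha, ← hr, spec_gm])
        refine ⟨O, s, ⟨(Subtype.val : genIn (U : Set X) x → X) ⁻¹' (M : Set X), M.2.preimage continuous_subtype_val⟩,
          hM rfl, fun w hw => ⟨hMO hw, fun y hy hyO => ?_⟩⟩
        subst hy
        refine (stk_shortExact hS w.1.1).1 ?_
        change stMap S.f w.1.1 (a w.1) = stMap S.f w.1.1 (gm S.X₁ O w.1.1 (hMO hw) s)
        rw [ha, ← hr, spec_gm, stMap_gm]
        exact (hMe w.1.1 (hMO hw) (hMO₂ hw) hw).symm⟩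
  obtain ⟨a₀, ha₀⟩ := hsj t
  have hmem : b - stMap S.f x a₀ ∈ gamSt U S.X₂ x := (mem_gamSt U).2 fun u hu huU => by
    rw [map_sub, spec_stMap, show spec S.X₁ hu a₀ = a ⟨u, huU, hu⟩ from ha₀ ⟨u, huU, hu⟩]
    exact sub_eq_zero.2 (ha ⟨u, huU, hu⟩).symm
  obtain ⟨b', hb'⟩ := exists_stMap_incl (openCond_gamSt U hU S.X₂) x _ hmem
  have : stMap (gamKappa U S) x (stMap (cokernel.π (gamMap U S.f)) x b') = d :=
    stalk_injective_of_mono (incl S.X₃ (gamSt U S.X₃)) x (by
      rw [← stMap_comp_apply, ← stMap_comp_apply, gamKappa, cokernel.π_desc_assoc, gamMap_incl, stMap_comp_apply, hb', map_sub,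
        hb, ← stMap_comp_apply, S.zero, stMap_zero_apply, sub_zero])
  rw [← this, ← stMap_comp_apply, cokernel.condition, stMap_zero_apply]

end Step

end Groth.Agent.SpecVan
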