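import Groth.Agent.SpecVan.Dim
import Groth.Agent.FreeJ.Grothendieck

/-!
Vanishing for sheaves with small support; sheaves vanishing on an open.
-/

set_option autoImplicit false
set_option linter.style.haveILetI false
set_option linter.unusedSectionVars false
set_option backward.isDefEq.respectTransparency false
set_option backward.isDefEq.respectTransparency.types false

universe u

open CategoryTheory Category Limits Opposite TopologicalSpace Abelian
open Groth.Agent.TopPullModel Groth.Agent.TopCompact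
open scoped Topology

namespace Groth.Agent.SpecVan

open Groth.Agent.FreeJ

/-- Vanishing from degree `n` on, for spectral spaces of dimension less than `n`. -/
def Van (n : ℕ) : Prop :=
  ∀ (X : TopCat.{u}) [SpectralSpace X], DimLT X n → ∀ (W : Opens X), IsCompact (W : Set X) →
    ∀ (F : CohTop.Ab X) (p : ℕ), n ≤ p → Subsingleton (Ext (fr W) F p)

variable {X : TopCat.{u}}

theorem van_zero : Van.{u} 0 := fun X _ h W _ F p _ => by
  haveI := isEmpty_of_dimLT_zero h
  have hF : IsZero F := isZero_of_stalks fun x => isEmptyElim x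
  refine subsingleton_of_forall_eq 0 fun x => ?_
  rw [← Ext.comp_mk₀_id x, hF.eq_of_src (𝟙 F) 0, Ext.mk₀_zero, Ext.comp_zero]

theorem isOpen_cons_zeroLocus [SpectralSpace X] (F : CohTop.Ab X) (V : Opens X) (hV : IsCompact (V : Set X))
    (s : F.obj.obj (op V)) :
    IsOpen[constructibleTopology X] {x | ∃ hx : x ∈ V, gm F V x hx s ≠ 0}ᶜ := by
  let W : Set X := {x | ∃ hx : x ∈ V, gm F V x hx s = 0}
  have hW : IsOpen W := by
    refine isOpen_iff_forall_mem_open.2 fun x ⟨hx, h0⟩ => ?_
    obtain ⟨M, hM, hMV, -, hMe⟩ := exists_eq_near F s (0 : F.obj.obj (op V)) {x} (by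
      intro y hy
      obtain rfl : x = y := (show y = x from hy).symm
      exact ⟨hx, hx, by rw [h0, map_zero]⟩)
    exact ⟨M, fun y hy => ⟨hMV hy, (hMe y (hMV hy) (hMV hy) hy).trans (map_zero _)⟩, M.2, hM rfl⟩
  have e : {x | ∃ hx : x ∈ V, gm F V x hx s ≠ 0}ᶜ = (V : Set X)ᶜ ∪ W := by
    ext x
    constructor
    · intro h
      by_cases hx : x ∈ V
      · exact Or.inr ⟨hx, by_contra fun h0 => h ⟨hx, h0⟩⟩
      · exact Or.inl hx
    · rintro (h | ⟨hx, h0⟩) ⟨hx', h'⟩
      · exact h hx'
      · exact h' h0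
  rw [e]
  exact @IsOpen.union X _ _ (constructibleTopology X) (isOpen_cons_of_isCompact_compl V.2 hV) (TopQC.isOpen_cons hW)

/-- Sheaves with small support. -/
theorem subsingleton_of_support [SpectralSpace X] {e : ℕ} (ih : Van.{u} e) (G : CohTop.Ab X) (T : Set X)
    (hsupp : ∀ x ∉ T, Subsingleton (CohTop.stalk G x))
    (hT : ∀ ⦃x x' : X⦄, x ⤳ x' → x ∈ T → x' ∈ T) (hdim : ∀ C : Set X, IsClosed C → C ⊆ T → DimLT C e)
    (p : ℕ) (hp : e ≤ p) : Subsingleton (Ext (fr (⊤ : Opens X)) G p) := by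
  rcases e with _ | e
  · refine (subsingleton_H_iff _ _).1 (subsingleton_of_isZero (isZero_of_stalks fun x => hsupp x fun hx => ?_) p)
    haveI := isEmpty_of_dimLT_zero (hdim (closure {x}) isClosed_closure fun y hy =>
      hT (specializes_iff_mem_closure.2 hy) hx)
    exact isEmptyElim (⟨x, subset_closure rfl⟩ : closure {x})
  classical
  let ι := Σ V : {V : Opens X // IsCompact (V : Set X)}, G.obj.obj (op V.1)
  let V : ι → Opens X := fun g => g.1.1
  let s : ∀ g : ι, G.obj.obj (op (V g)) := fun g => g.2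
  let S : ∀ x, AddSubgroup (CohTop.stalk G x) := fun _ => ⊤
  haveI := isIso_liftSub (𝟙 G) (S := S) (fun x a => AddSubgroup.mem_top _) fun x a _ => ⟨a, by
    obtain ⟨O, hO, t, rfl⟩ := exists_gm_eq G a
    rw [stMap_gm]
    rfl⟩
  refine SH.of_iso (d := e) (asIso (liftSub G S (𝟙 G) fun x a => AddSubgroup.mem_top _)).symm
    (SH.of_spans V s S (fun g x hx => AddSubgroup.mem_top _) (fun x a _ _ => ?_) fun T' => ?_) p hp
  · obtain ⟨O, hO, t, rfl⟩ := exists_gm_eq G a
    obtain ⟨W, hWc, hxW, hWO⟩ := TopQC.exists_compact_le hO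
    exact ⟨⟨⟨W, hWc⟩, G.obj.map (homOfLE hWO).op t⟩, hxW, gm_res G hWO x hxW t⟩
  intro q hq
  let A : Set X := ⋃ g ∈ T', {x | ∃ hx : x ∈ V g, gm G (V g) x hx (s g) ≠ 0}
  have hA : IsOpen[constructibleTopology X] Aᶜ := by
    have e' : Aᶜ = ⋂ g ∈ T', {x | ∃ hx : x ∈ V g, gm G (V g) x hx (s g) ≠ 0}ᶜ := by
      simp only [A, Set.compl_iUnion]
    rw [e']
    exact @isOpen_biInter_finset X ι (constructibleTopology X) _ _ fun g _ => isOpen_cons_zeroLocus G _ g.1.2 _
  let U : Opens X := ⟨(closure A)ᶜ, isClosed_closure.isOpen_compl⟩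
  have hzero : ∀ x ∈ U, Subsingleton (CohTop.stalk (sub G (spanSt V s T')) x) := fun x hx =>
    subsingleton_of_forall_eq 0 fun a => stalk_injective_of_mono (incl G (spanSt V s T')) x (by
      rw [map_zero]
      have hm := spanSt_le V s (fun y => if y ∈ A then (⊤ : AddSubgroup (CohTop.stalk G y)) else ⊥) (fun g hg y hy => by
        by_cases h : y ∈ A
        · rw [if_pos h]
          exact AddSubgroup.mem_top _
        · rw [if_neg h, AddSubgroup.mem_bot]
          by_contra h0
          exact h (Set.mem_iUnion₂.2 ⟨g, hg, hy, h0⟩)) x (stMap_incl_mem G (spanSt V s T') x a)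
      rw [if_neg (fun h => hx (subset_closure h)), AddSubgroup.mem_bot] at hm
      exact hm)
  refine (subsingleton_H_iff _ _).1 (subsingleton_H_of_support U hzero q fun M => (subsingleton_H_iff M q).2 ?_)
  have hsub : ((U : Set X)ᶜ) ⊆ T := by
    intro y hy
    obtain ⟨a, ha, hay⟩ := SpecSpLib.exists_specializes hA (show y ∈ closure A by simpa [U] using hy)
    refine hT hay ?_
    obtain ⟨g, -, hga, hne⟩ := Set.mem_iUnion₂.1 ha
    by_contra haT
    exact hne ((hsupp a haT).elim _ _)
  haveI : SpectralSpace (TopCat.of ((U : Set X)ᶜ : Set X)) := spectral_of_isClosed U.isOpen.isClosed_compl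
  exact ih (TopCat.of ((U : Set X)ᶜ : Set X)) (hdim _ U.isOpen.isClosed_compl hsub) ⊤
    (by simpa using isCompact_univ) M q (by omega)

/-- Sections vanishing on an open. -/
noncomputable def vanSt (U : Opens X) (F : CohTop.Ab X) (x : X) : AddSubgroup (CohTop.stalk F x) := by
  classical exact if x ∈ U then ⊥ else ⊤

theorem isFlasque_sub_vanishing (U : Opens X) (I : CohTop.Ab X) [TopCat.Sheaf.IsFlasque I]
    (S : ∀ x, AddSubgroup (CohTop.stalk I x))
    (hS : ∀ (O : Opens X) (s : I.obj.obj (op O)),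
      s ∈ secsIn I S O ↔ ∀ (x : X) (hx : x ∈ O), x ∈ U → gm I O x hx s = 0) :
    TopCat.Sheaf.IsFlasque (sub I S) := by
  refine ⟨fun {A B} i => (AddCommGrpCat.epi_iff_surjective _).2 fun (t : secsIn I S B.unop) => ?_⟩
  obtain ⟨r, hrB, hrU⟩ := TopQC.exists_glue_res I t.1 (0 : I.obj.obj (op U)) fun x hA hB => by
    rw [map_zero]
    exact (hS _ _).1 t.2 x hA hB
  obtain ⟨T, hT⟩ := res_surjective_of_flasque I (le_top : B.unop ⊔ U ≤ ⊤) r
  refine ⟨(⟨I.obj.map (homOfLE (le_top : A.unop ≤ ⊤)).op T, (hS _ _).2 fun x hx hxU => ?_⟩ : secsIn I S A.unop),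
    Subtype.ext (gm_ext I B.unop _ _ fun x hx => ?_)⟩
  · have h1 : gm I (B.unop ⊔ U) x (Or.inr hxU) r = 0 :=
      (gm_res I le_sup_right x hxU r).symm.trans ((congrArg (gm I U x hxU) hrU).trans (map_zero _))
    rw [gm_res, ← gm_res I (le_top : B.unop ⊔ U ≤ ⊤) x (Or.inr hxU) T, hT, h1]
  · change gm I B.unop x hx (I.obj.map i (I.obj.map (homOfLE le_top).op T)) = _
    rw [← hrB, gm_res, ← hT, gm_res, ← ConcreteCategory.comp_apply (I.obj.map _) (I.obj.map i), ← I.obj.map_comp]
    exact gm_res I (le_top : B.unop ≤ ⊤) x hx T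

theorem subsingleton_ext_fr_of_vanish (U : Opens X) :
    ∀ (q : ℕ) (C : CohTop.Ab X), (∀ x ∈ U, Subsingleton (CohTop.stalk C x)) → Subsingleton (Ext (fr U) C q) := by
  intro q
  induction q with
  | zero =>
    intro C hC
    have h : Subsingleton (C.obj.obj (op U)) := ⟨fun a b => gm_ext C U a b fun x hx => (hC x hx).elim _ _⟩
    exact (SiteCoh.hu0 C U).toEquiv.subsingleton
  | succ q ih =>
    intro C hC
    let J := Injective.under C
    have hJS : ∀ (O : Opens X) (s : J.obj.obj (op O)),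
        s ∈ secsIn J (vanSt U J) O ↔ ∀ (x : X) (hx : x ∈ O), x ∈ U → gm J O x hx s = 0 := fun O s =>
      ⟨fun h x hx hxU => by simpa [vanSt, hxU] using h x hx,
       fun h x hx => by
        by_cases hxU : x ∈ U
        · simpa [vanSt, hxU] using h x hx hxU
        · simp [vanSt, hxU]⟩
    haveI : TopCat.Sheaf.IsFlasque J := SiteCoh.injective_isFlasque J
    haveI := isFlasque_sub_vanishing U J (vanSt U J) hJS
    have hm : ∀ x a, stMap (Injective.ι C) x a ∈ vanSt U J x := fun x a => by
      by_cases hxU : x ∈ U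
      · rw [(hC x hxU).elim a 0, map_zero]
        exact zero_mem _
      · simp [vanSt, hxU]
    let φ : C ⟶ sub J (vanSt U J) := liftSub J _ (Injective.ι C) hm
    haveI : Mono φ := mono_of_mono_fac (liftSub_incl J _ (Injective.ι C) hm)
    let S₀ : ShortComplex (CohTop.Ab X) := ShortComplex.mk φ (cokernel.π φ) (cokernel.condition φ)
    have hS₀ : S₀.ShortExact := { exact := ShortComplex.exact_of_g_is_cokernel _ (cokernelIsCokernel φ) }
    haveI : Subsingleton (Ext (fr U) S₀.X₂ (q + 1)) := SiteCoh.flasque_acyclic (sub J (vanSt U J)) U q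
    haveI : Subsingleton (Ext (fr U) S₀.X₃ q) := ih _ fun x hx => subsingleton_of_forall_eq 0 fun c => by
      obtain ⟨b, rfl⟩ := stalk_surjective_of_epi (cokernel.π φ) x c
      have hb : b = 0 := stalk_injective_of_mono (incl J (vanSt U J)) x (by
        have h := stMap_incl_mem J (vanSt U J) x b
        rw [map_zero]
        simpa [vanSt, hx] using h)
      rw [hb, map_zero]
    exact SiteCoh.subsingleton_ext_succ hS₀ _ q

end Groth.Agent.SpecVan
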